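import Groth.Agent.Lib.Nagata6.Consequences
import Groth.Agent.Lib.Nagata6.Comp
import Groth.Agent.Lib.Nagata6.UnionData
import Groth.Agent.Lib.ProjQ8.Ops
import Groth.Agent.S9706
import Groth.Agent.S8910
import Groth.Agent.S9708

/-!
# Refined Chow lemma for a scheme with a dense quasi-projective open
-/

set_option autoImplicit false
set_option backward.isDefEq.respectTransparency false
universe u

open CategoryTheory CategoryTheory.Limits AlgebraicGeometry TopologicalSpace

namespace GrothLib.ChowQP8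

/-- An admissible blow-up is an isomorphism over the open. -/
theorem isIso_restrict_of_admissible {X X' : Scheme.{u}} {b : X' ⟶ X} {I : X.IdealSheafData}
    (hb : BlowUp.IsBlowUp b I) (U : X.Opens) (hd : Disjoint (I.support : Set X) (U : Set X)) :
    IsIso (b ∣_ U) := by
  have := GrothLib.BlowUp.isIso_off_center hb
  exact Nagata6.isIso_restrict_of_le b I.support.compl U (fun x hx hxI => Set.disjoint_left.mp hd hxI hx)

/-- The preimage of a dense open under a blow-up centred away from it is dense. -/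
theorem dense_preimage {X X' : Scheme.{u}} {b : X' ⟶ X} {I : X.IdealSheafData}
    (hb : BlowUp.IsBlowUp b I) (U : X.Opens) (hU : Dense (U : Set X)) :
    Dense ((b ⁻¹ᵁ U : X'.Opens) : Set X') := by
  have hiso := GrothLib.BlowUp.isIso_off_center hb
  rw [dense_iff_inter_open]
  intro N hN hne
  obtain ⟨y, hyN, hy⟩ := (dense_iff_inter_open.mp (QuasiDom6.dense_compl_support hb.1)) N hN hne
  have hy' : b y ∈ I.support.compl := fun h => hy (by
    rw [Scheme.IdealSheafData.support_comap]; exact h)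
  let Z : X.Opens := I.support.compl
  let φ := (b ∣_ Z) ≫ Z.ι
  have ho : IsOpen (φ '' ((b ⁻¹ᵁ Z).ι ⁻¹' N)) :=
    φ.isOpenEmbedding.isOpenMap _ (hN.preimage (b ⁻¹ᵁ Z).ι.continuous)
  obtain ⟨_, ⟨z, hz, rfl⟩, hzU⟩ := (dense_iff_inter_open.mp hU) _ ho ⟨_, ⟨y, hy'⟩, hyN, rfl⟩
  refine ⟨(b ⁻¹ᵁ Z).ι z, hz, ?_⟩
  show b ((b ⁻¹ᵁ Z).ι z) ∈ U
  rw [← Scheme.Hom.comp_apply, ← morphismRestrict_ι]
  exact hzU

/-- The refined Chow lemma in the presence of a dense quasi-projective open. -/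
theorem exists_chow {X S : Scheme.{u}} [CompactSpace S] [QuasiSeparatedSpace S]
    (f : X ⟶ S) [IsSeparated f] [QuasiCompact f] [LocallyOfFiniteType f]
    (U : X.Opens) (hU : IsCompact (U : Set X)) (hUd : Dense (U : Set X))
    (hq : RelProj.IsQuasiProjective (U.ι ≫ f)) :
    ∃ (𝓘 : X.IdealSheafData) (X' P : Scheme.{u}) (q : X' ⟶ X) (j : X' ⟶ P) (g : P ⟶ S),
      BlowUp.IsBlowUp q 𝓘 ∧ BlowUp.IsAdmissibleFor U 𝓘 ∧ RelProj.IsProjective g ∧
      IsOpenImmersion j ∧ IsDominant j ∧ j ≫ g = q ≫ f := by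
  have : CompactSpace X := QuasiCompact.compactSpace_of_compactSpace f
  have : QuasiSeparatedSpace X := quasiSeparatedSpace_of_quasiSeparated f
  have : CompactSpace (U : Scheme.{u}) := isCompact_iff_compactSpace.mp hU
  obtain ⟨P₀, j₀, g₀, hj₀, hg₀, hfac⟩ := Groth.Agent.S9706.result (U.ι ≫ f) hq
  have hP₀ : IsProper g₀ := ProjAlg.isProper_of_isProjective hg₀
  have : QuasiCompact (j₀ ≫ g₀) := by rw [hfac]; exact hq.2.1
  have : QuasiCompact j₀ := QuasiCompact.of_comp j₀ g₀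
  let P := j₀.image
  let r : (U : Scheme.{u}) ⟶ P := j₀.toImage
  let g : P ⟶ S := j₀.imageι ≫ g₀
  have hg : RelProj.IsProjective g := VA.isProjective_precomp j₀.imageι hg₀
  have : IsProper g := ProjAlg.isProper_of_isProjective hg
  have : IsDominant r := inferInstanceAs (IsDominant j₀.toImage)
  have : IsOpenImmersion r := inferInstanceAs (IsOpenImmersion j₀.toImage)
  have hrg : r ≫ g = U.ι ≫ f := by
    rw [← Category.assoc, Scheme.Hom.toImage_imageι, hfac]
  let π : pullback ((⊤ : X.Opens).ι ≫ f) g ⟶ _ := pullback.fst _ _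
  let s : (U : Scheme.{u}) ⟶ pullback ((⊤ : X.Opens).ι ≫ f) g :=
    pullback.lift (X.homOfLE le_top) r (by rw [Scheme.homOfLE_ι_assoc, hrg])
  have : IsProper π := MorphismProperty.pullback_fst _ _ inferInstance
  have hs : s ≫ π = X.homOfLE le_top := pullback.lift_fst _ _ _
  obtain ⟨I₁, X₁, b, hb, hI₁, s', hs', hag⟩ :=
    Nagata6.extend_section U ⊤ le_top hU CompactSpace.isCompact_univ π s hs
  have := Nagata6.isProper_of_isBlowUp hI₁.1 hb
  have : CompactSpace X₁ := QuasiCompact.compactSpace_of_compactSpace b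
  have : QuasiSeparatedSpace X₁ := quasiSeparatedSpace_of_quasiSeparated b
  have hιtop : IsIso (b ⁻¹ᵁ (⊤ : X.Opens)).ι := inferInstanceAs (IsIso X₁.topIso.hom)
  let h : X₁ ⟶ P := inv (b ⁻¹ᵁ (⊤ : X.Opens)).ι ≫ s' ≫ pullback.snd _ _
  have hh : h ≫ g = b ≫ f := by
    have hc := pullback.condition (f := (⊤ : X.Opens).ι ≫ f) (g := g)
    simp only [h, Category.assoc, ← hc]
    rw [← Category.assoc s', hs', morphismRestrict_ι_assoc, IsIso.inv_hom_id_assoc]
  have hhU : (b ⁻¹ᵁ U).ι ≫ h = (b ∣_ U) ≫ r := by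
    have he : (b ⁻¹ᵁ U).ι = X₁.homOfLE (show b ⁻¹ᵁ U ≤ b ⁻¹ᵁ ⊤ from fun _ _ => trivial) ≫ (b ⁻¹ᵁ (⊤ : X.Opens)).ι :=
      (Scheme.homOfLE_ι X₁ _).symm
    rw [he, Category.assoc]
    simp only [h, IsIso.hom_inv_id_assoc]
    rw [reassoc_of% hag, pullback.lift_snd]
  let O : P.Opens := r.opensRange
  have hOd : Dense (O : Set P) := by
    rw [Scheme.Hom.coe_opensRange]; exact r.denseRange
  have hbU : IsIso (b ∣_ U) := isIso_restrict_of_admissible hb U hI₁.2
  have hd : Dense ((b ⁻¹ᵁ U : X₁.Opens) : Set X₁) := dense_preimage hb U hUd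
  have hpre : h ⁻¹ᵁ O = b ⁻¹ᵁ U := by
    refine le_antisymm (fun x hx => ?_) (fun x hx => ?_)
    · let φ : (O : Scheme.{u}) ⟶ X := r.isoOpensRange.inv ≫ U.ι
      have hφ : O.ι ≫ g = φ ≫ f := by
        rw [Category.assoc, ← hrg, Scheme.Hom.isoOpensRange_inv_comp_assoc]
      let Γ := pullback.lift O.ι φ hφ
      let m : X₁ ⟶ pullback g f := pullback.lift h b hh
      have hm : (b ⁻¹ᵁ U).ι ≫ m = (b ∣_ U) ≫ r.isoOpensRange.hom ≫ Γ := by
        refine pullback.hom_ext ?_ ?_
        · simp only [m, Γ, O, Category.assoc, pullback.lift_fst, hhU,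
            Scheme.Hom.isoOpensRange_hom_ι]
        · simp only [m, Γ, φ, O, Category.assoc, pullback.lift_snd, Iso.hom_inv_id_assoc,
            morphismRestrict_ι]
      have hcl : m x ∈ closure (Set.range (fun z => Γ z)) := by
        refine map_mem_closure m.continuous (hd x) fun y hy => ⟨(r.isoOpensRange.hom) ((b ∣_ U) ⟨y, hy⟩), ?_⟩
        show Γ _ = m ((b ⁻¹ᵁ U).ι ⟨y, hy⟩)
        rw [← Scheme.Hom.comp_apply, ← Scheme.Hom.comp_apply, ← Scheme.Hom.comp_apply, hm]
      have hfst : m x ∈ (pullback.fst g f) ⁻¹ᵁ O := by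
        show pullback.fst g f (m x) ∈ O
        rw [← Scheme.Hom.comp_apply, pullback.lift_fst]; exact hx
      obtain ⟨z, hz⟩ := Nagata6.closure_graph_inter_subset g f O φ hφ ⟨hcl, hfst⟩
      have := congrArg (fun t => pullback.snd g f t) hz
      simp only [m, φ, ← Scheme.Hom.comp_apply, pullback.lift_snd] at this
      show b x ∈ U
      rw [← this]
      exact (r.isoOpensRange.inv z).2
    · show h ((b ⁻¹ᵁ U).ι ⟨x, hx⟩) ∈ O
      rw [← Scheme.Hom.comp_apply, hhU, Scheme.Hom.comp_apply]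
      exact ⟨_, rfl⟩
  have hOc : IsCompact (O : Set P) := by
    rw [Scheme.Hom.coe_opensRange]; exact isCompact_range r.continuous
  have hiso : IsIso (h ∣_ O) := by
    have e : h ∣_ O ≫ O.ι = X₁.homOfLE hpre.le ≫ (b ∣_ U) ≫ r := by
      rw [morphismRestrict_ι, ← hhU, Scheme.homOfLE_ι_assoc]
    have : IsOpenImmersion (h ∣_ O ≫ O.ι) := by
      rw [e]; infer_instance
    have : IsOpenImmersion (h ∣_ O) := IsOpenImmersion.of_comp _ O.ι
    have : Surjective (h ∣_ O) := ⟨fun o => by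
      obtain ⟨u, hu⟩ := o.2
      obtain ⟨y, hy⟩ := (b ∣_ U).homeomorph.surjective u
      refine ⟨⟨y.1, hpre.ge y.2⟩, O.ι.isOpenEmbedding.injective ?_⟩
      rw [← Scheme.Hom.comp_apply, morphismRestrict_ι]
      show h ((b ⁻¹ᵁ U).ι y) = o.1
      rw [← Scheme.Hom.comp_apply, hhU, Scheme.Hom.comp_apply, ← hu]
      exact congrArg (fun t => r t) hy⟩
    exact (isIso_iff_isOpenImmersion_and_surjective _).mpr ⟨inferInstance, inferInstance⟩
  have : IsSeparated (h ≫ g) := by rw [hh]; infer_instance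
  have : IsSeparated h := IsSeparated.of_comp h g
  have : QuasiCompact (h ≫ g) := by rw [hh]; infer_instance
  have : QuasiCompact h := QuasiCompact.of_comp h g
  have : LocallyOfFiniteType (h ≫ g) := by rw [hh]; infer_instance
  have : LocallyOfFiniteType h := locallyOfFiniteType_of_comp h g
  have : CompactSpace P := QuasiCompact.compactSpace_of_compactSpace g
  have : QuasiSeparatedSpace P := quasiSeparatedSpace_of_quasiSeparated g
  obtain ⟨J, P', c, W, d, hc, hJ, -, hle, hWd, hdh, hd₂, -, -⟩ :=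
    Nagata6.exists_modification h O O le_rfl hOc hOc subset_closure le_rfl
  obtain ⟨K, hK, hKs, hKb⟩ :=
    Nagata6.exists_isBlowUp_comp hI₁.1 hb (Nagata6.fg_comap' J hJ.1 h) hd₂
  refine ⟨K, W, P', d ≫ b, W.ι, c ≫ g, hKb, ⟨hK, ?_⟩, ?_, inferInstance, ?_, ?_⟩
  · rw [hKs]
    refine Set.disjoint_left.mpr ?_
    rintro x (hxI | ⟨y, hy, rfl⟩) hxU
    · exact Set.disjoint_left.mp hI₁.2 hxI hxU
    · rw [Scheme.IdealSheafData.support_comap] at hy
      exact Set.disjoint_left.mp hJ.2 hy (hpre.ge hxU)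
  · exact Groth.Agent.S9708.result c g (Groth.Agent.S8910.result J hJ.1 c hc) hg
  · exact ⟨by rw [DenseRange, Scheme.Opens.range_ι]; exact hWd⟩
  · rw [← Category.assoc, ← hdh, Category.assoc, hh, Category.assoc]

end GrothLib.ChowQP8
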